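import Cfsg.Agent.H377.TwoConv.Basic
import Cfsg.Agent.SmallSimple.Simple168Classes

/-!
# S4897, converse: `L₂(7)` (helper377)
-/

set_option autoImplicit false

namespace Cfsg.Agent.H377.TwoConv

open Cfsg Cfsg.Agent.Characters.Core Cfsg.Agent.H504.Zeros Cfsg.Agent.H504.TwoZ Cfsg.Agent.H727.DegCount
open Cfsg.Agent.H442.ZerosSmall

universe u

section

variable {G : Type u} [Group G] [Finite G]

/-- elements of order 7 are not real -/
theorem not_conj_inv_seven [IsSimpleGroup G] (h : Nat.card G = 168) {x : G} (hx : orderOf x = 7) :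
    ¬ IsConj x x⁻¹ := by
  intro hc
  obtain ⟨g, hg⟩ := isConj_iff.1 hc
  obtain ⟨P, hP⟩ := SmallSimple.Simple168.exists_sylow_zpowers 7 (SmallSimple.Simple168.card_of_sylow_seven h) x hx
  have hN := SmallSimple.Simple168.card_normalizer_seven h P
  have hgN : g ∈ Subgroup.normalizer ((P : Subgroup G) : Set G) := by
    have h1 : (Subgroup.zpowers x).map (MulAut.conj g).toMonoidHom = Subgroup.zpowers x := by
      rw [MonoidHom.map_zpowers]
      change Subgroup.zpowers (g * x * g⁻¹) = _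
      rw [hg, Subgroup.zpowers_inv]
    rw [hP, Subgroup.mem_normalizer_iff]
    intro y
    constructor
    · intro hy
      rw [← h1]
      exact ⟨y, hy, rfl⟩
    · intro hy
      rw [← h1] at hy
      obtain ⟨z, hz, hzy⟩ := hy
      have : z = y := (MulAut.conj g).injective hzy
      exact this ▸ hz
  have h21 : g ^ 21 = 1 := by
    have h2 := pow_card_eq_one' (x := (⟨g, hgN⟩ : Subgroup.normalizer ((P : Subgroup G) : Set G)))
    rw [hN] at h2
    exact congrArg Subtype.val h2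
  have hg2 : Commute (g ^ 2) x := by
    have h3 : g * x⁻¹ * g⁻¹ = x := by
      have h4 : (g * x * g⁻¹)⁻¹ = x := by rw [hg, inv_inv]
      rwa [mul_inv_rev, mul_inv_rev, inv_inv, ← mul_assoc] at h4
    have h5 : g ^ 2 * x * (g ^ 2)⁻¹ = x := by
      have h6 : g ^ 2 * x * (g ^ 2)⁻¹ = g * (g * x * g⁻¹) * g⁻¹ := by
        simp only [pow_two, mul_inv_rev, mul_assoc]
      rw [h6, hg, h3]
    exact mul_inv_eq_iff_eq_mul.1 h5
  have hg1 : Commute g x := by
    have h7 := hg2.pow_left 11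
    rw [← pow_mul, show 2 * 11 = 21 + 1 by norm_num, pow_succ, h21, one_mul] at h7
    exact h7
  rw [hg1.eq, mul_inv_cancel_right] at hg
  have h8 : x ^ 2 = 1 := by
    rw [pow_two]
    nth_rewrite 1 [hg]
    exact inv_mul_cancel x
  have h9 := orderOf_dvd_of_pow_eq_one h8
  rw [hx] at h9
  norm_num at h9

end

section

variable {G : Type u} [Group G]

theorem card_classes_seven [Finite G] (D : Deg7 G) : Nat.card (ConjClasses G) = 6 := by
  rw [card_classes _ D.mem, Finset.sum_insert (by decide), Finset.sum_insert (by decide),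
    Finset.sum_insert (by decide), Finset.sum_insert (by decide), Finset.sum_singleton, D.one, D.three, D.six,
    D.seven, D.eight]
  norm_num

variable [Finite G] [IsSimpleGroup G]

theorem atMost_of_deg (D : Deg7 G) (h : Nat.card G = 168) : AtMost G := by
  obtain ⟨φ, hφ⟩ := exists_deg (G := G) (d := 6) (by rw [D.six]; norm_num)
  have : Fact (Nat.Prime 7) := ⟨by norm_num⟩
  have : Fact (Nat.Prime 3) := ⟨by norm_num⟩
  obtain ⟨t, ot⟩ := exists_prime_orderOf_dvd_card' (G := G) 2 (by rw [h]; norm_num)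
  obtain ⟨c, oc⟩ := exists_prime_orderOf_dvd_card' (G := G) 3 (by rw [h]; norm_num)
  obtain ⟨x, ox⟩ := exists_prime_orderOf_dvd_card' (G := G) 7 (by rw [h]; norm_num)
  obtain ⟨q, -, oq⟩ := SmallSimple.Simple168Classes.exists_four h default
  have o1 : orderOf (1 : G) = 1 := orderOf_one
  have ox' : orderOf x⁻¹ = 7 := by rw [orderOf_inv, ox]
  have nx := not_conj_inv_seven h ox
  have p7 : Nat.Prime 7 := by norm_num
  refine ⟨φ, fun χ h1 hne => ?_⟩
  have hm := D.mem _ (cnt_deg_pos χ)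
  have hk := card_classes_seven D
  simp only [Finset.mem_insert, Finset.mem_singleton] at hm
  rcases hm with hd | hd | hd | hd | hd
  · exact absurd hd h1
  · have h := zc_add_le (χ := χ) [1, t, x, x⁻¹] (by
      simp only [List.pairwise_cons, List.mem_cons, List.not_mem_nil, or_false, forall_eq_or_imp, forall_eq]
      refine ⟨⟨not_isConj (by omega), not_isConj (by omega), not_isConj (by omega)⟩,
        ⟨not_isConj (by omega), not_isConj (by omega)⟩, nx, ?_⟩
      simp) (by
      simp only [List.mem_cons, List.not_mem_nil, or_false, forall_eq_or_imp, forall_eq]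
      exact ⟨ne_zero_one, ne_zero_of_not_dvd Nat.prime_two (by rw [hd]; norm_num) ⟨1, ot⟩,
        ne_zero_of_not_dvd p7 (by rw [hd]; norm_num) ⟨1, ox⟩,
        ne_zero_of_not_dvd p7 (by rw [hd]; norm_num) ⟨1, ox'⟩⟩)
    rw [hk] at h
    simpa using h
  · exfalso
    apply hne
    exact Subtype.ext (eq_of_cnt_le_one (G := G) (d := 6) (by rw [D.six]) χ.2 φ.2
      ((deg_eq χ).2 hd) ((deg_eq φ).2 hφ))
  · have h := zc_add_le (χ := χ) [1, t, c, q] (by
      simp only [List.pairwise_cons, List.mem_cons, List.not_mem_nil, or_false, forall_eq_or_imp, forall_eq]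
      refine ⟨⟨not_isConj (by omega), not_isConj (by omega), not_isConj (by omega)⟩,
        ⟨not_isConj (by omega), not_isConj (by omega)⟩, not_isConj (by omega), ?_⟩
      simp) (by
      simp only [List.mem_cons, List.not_mem_nil, or_false, forall_eq_or_imp, forall_eq]
      exact ⟨ne_zero_one, ne_zero_of_not_dvd Nat.prime_two (by rw [hd]; norm_num) ⟨1, ot⟩,
        ne_zero_of_not_dvd Nat.prime_three (by rw [hd]; norm_num) ⟨1, oc⟩,
        ne_zero_of_not_dvd Nat.prime_two (by rw [hd]; norm_num) ⟨2, oq⟩⟩)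
    rw [hk] at h
    simpa using h
  · have h := zc_add_le (χ := χ) [1, c, x, x⁻¹] (by
      simp only [List.pairwise_cons, List.mem_cons, List.not_mem_nil, or_false, forall_eq_or_imp, forall_eq]
      refine ⟨⟨not_isConj (by omega), not_isConj (by omega), not_isConj (by omega)⟩,
        ⟨not_isConj (by omega), not_isConj (by omega)⟩, nx, ?_⟩
      simp) (by
      simp only [List.mem_cons, List.not_mem_nil, or_false, forall_eq_or_imp, forall_eq]
      exact ⟨ne_zero_one, ne_zero_of_not_dvd Nat.prime_three (by rw [hd]; norm_num) ⟨1, oc⟩,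
        ne_zero_of_not_dvd p7 (by rw [hd]; norm_num) ⟨1, ox⟩,
        ne_zero_of_not_dvd p7 (by rw [hd]; norm_num) ⟨1, ox'⟩⟩)
    rw [hk] at h
    simpa using h

/-- the irreducible characters of degrees 6, 7, 8 and their zeros -/
theorem chars_of_deg (D : Deg7 G) (h : Nat.card G = 168) : ∃ χ₆ χ₇ χ₈ : IrrCharacter G,
    χ₆ ≠ χ₇ ∧ χ₆ ≠ χ₈ ∧ χ₇ ≠ χ₈ ∧ (∀ g, orderOf g = 3 → (χ₆ : G → ℂ) g = 0) ∧
    (∀ g, orderOf g = 4 → (χ₆ : G → ℂ) g = 0) ∧ (∀ g, orderOf g = 7 → (χ₇ : G → ℂ) g = 0) ∧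
    (∀ g, orderOf g = 2 → (χ₈ : G → ℂ) g = 0) ∧ (∀ g, orderOf g = 4 → (χ₈ : G → ℂ) g = 0) := by
  classical
  have := finite_irr (G := G)
  obtain ⟨χ₆, h6⟩ := exists_deg (G := G) (d := 6) (by rw [D.six]; norm_num)
  obtain ⟨χ₇, h7⟩ := exists_deg (G := G) (d := 7) (by rw [D.seven]; norm_num)
  obtain ⟨χ₈, h8⟩ := exists_deg (G := G) (d := 8) (by rw [D.eight]; norm_num)
  refine ⟨χ₆, χ₇, χ₈, ne_of_deg (by omega), ne_of_deg (by omega), ne_of_deg (by omega), fun g hg => ?_,
    fun g hg => ?_, fun g hg => ?_, fun g hg => ?_, fun g hg => ?_⟩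
  · exact eq_zero_of_dz (p := 3) (a := 1) Nat.prime_three (by rw [h6]; norm_num) (by rw [h]; norm_num) (by rw [hg])
  · by_contra hz
    have h1 := nv_le_card_centralizer g
    rw [SmallSimple.Simple168Classes.card_centralizer_four h g hg] at h1
    have h2 : Nat.card {χ : IrrCharacter G // ¬ 2 ∣ charDegree (χ : G → ℂ)} = 4 := by
      rw [card_filter (G := G) (fun d => ¬ 2 ∣ d) _ D.mem,
        show ({1, 3, 6, 7, 8} : Finset ℕ).filter (fun d => ¬ 2 ∣ d) = {1, 3, 7} by decide,
        Finset.sum_insert (by decide), Finset.sum_insert (by decide), Finset.sum_singleton, D.one, D.three, D.seven]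
      norm_num
    have h3 : Nat.card ({χ : IrrCharacter G // ¬ 2 ∣ charDegree (χ : G → ℂ)} ⊕ Unit) ≤ nv g := by
      refine Nat.card_le_card_of_injective (fun x => match x with
        | .inl χ => ⟨χ.1, ne_zero_of_not_dvd Nat.prime_two χ.2 ⟨2, hg⟩⟩
        | .inr _ => ⟨χ₆, hz⟩) ?_
      rintro (a | a) (b | b) hab
      · have h4 : a.1 = b.1 :=
          congrArg (fun x : {χ : IrrCharacter G // (χ : G → ℂ) g ≠ 0} => x.1) hab
        exact congrArg Sum.inl (Subtype.ext h4)
      · exfalso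
        have h4 : a.1 = χ₆ := congrArg Subtype.val hab
        exact a.2 (by rw [h4, h6]; norm_num)
      · exfalso
        have h4 : χ₆ = b.1 := congrArg Subtype.val hab
        exact b.2 (by rw [← h4, h6]; norm_num)
      · rfl
    rw [Nat.card_sum, h2, Nat.card_unique] at h3
    omega
  · exact eq_zero_of_dz (p := 7) (a := 1) (by norm_num) (by rw [h7]; norm_num) (by rw [h]; norm_num) (by rw [hg])
  · exact eq_zero_of_dz (p := 2) (a := 3) Nat.prime_two (by rw [h8]; norm_num) (by rw [h]; norm_num) (by rw [hg])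
  · exact eq_zero_of_dz (p := 2) (a := 3) Nat.prime_two (by rw [h8]; norm_num) (by rw [h]; norm_num)
      (by rw [hg]; norm_num)

end

abbrev L7 : Type := Matrix.ProjectiveSpecialLinearGroup (Fin 2) (ZMod 7)

instance finite_L7 : Finite L7 := by
  unfold L7 Matrix.ProjectiveSpecialLinearGroup
  infer_instance

theorem simple_L7 : IsSimpleGroup L7 := TwoFusion.SLTwoFacts.isSimpleGroup_psl (by rw [ZMod.card]; norm_num)

theorem card_l7 : Nat.card L7 = 168 := SmallSimple.PSLFacts.card_psl_two_seven (ZMod.card 7)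

theorem atMost_l7 : AtMost (Matrix.ProjectiveSpecialLinearGroup (Fin 2) (ZMod 7)) :=
  have := simple_L7
  atMost_of_deg (deg7 (F := ZMod 7) (ZMod.card 7)) card_l7

theorem l7_chars : ∃ χ₆ χ₇ χ₈ : IrrCharacter (Matrix.ProjectiveSpecialLinearGroup (Fin 2) (ZMod 7)),
    χ₆ ≠ χ₇ ∧ χ₆ ≠ χ₈ ∧ χ₇ ≠ χ₈ ∧
    (∀ g, orderOf g = 3 → (χ₆ : Matrix.ProjectiveSpecialLinearGroup (Fin 2) (ZMod 7) → ℂ) g = 0) ∧
    (∀ g, orderOf g = 4 → (χ₆ : Matrix.ProjectiveSpecialLinearGroup (Fin 2) (ZMod 7) → ℂ) g = 0) ∧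
    (∀ g, orderOf g = 7 → (χ₇ : Matrix.ProjectiveSpecialLinearGroup (Fin 2) (ZMod 7) → ℂ) g = 0) ∧
    (∀ g, orderOf g = 2 → (χ₈ : Matrix.ProjectiveSpecialLinearGroup (Fin 2) (ZMod 7) → ℂ) g = 0) ∧
    (∀ g, orderOf g = 4 → (χ₈ : Matrix.ProjectiveSpecialLinearGroup (Fin 2) (ZMod 7) → ℂ) g = 0) :=
  have := simple_L7
  chars_of_deg (deg7 (F := ZMod 7) (ZMod.card 7)) card_l7

end Cfsg.Agent.H377.TwoConv
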