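import Cfsg.Agent.H504.TwoRows
import Cfsg.Agent.H442.ZerosSmall
import Cfsg.Agent.S0157
import Cfsg.Agent.Blocks.CentralProduct

/-!
# S4897, converse: tools (helper377)

* `zc_add_le` : an irreducible character which does not vanish on the pairwise non-conjugate elements of the list `l` has
  at most `k(G) - #l` zeros; `le_zc_list` : lower bound;
* `ne_zero_of_not_dvd`, `eq_zero_of_dz` : zeros and degrees.
-/

set_option autoImplicit false

namespace Cfsg.Agent.H377.TwoConv

open Cfsg Cfsg.Agent.Characters.Core Cfsg.Agent.H504.Zeros Cfsg.Agent.H504.TwoZ Cfsg.Agent.H727.DegCount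

universe u

variable {G : Type u} [Group G]

theorem zc_add_le [Finite G] {χ : IrrCharacter G} (l : List G) (hl : l.Pairwise fun g h => ¬ IsConj g h)
    (h : ∀ g ∈ l, (χ : G → ℂ) g ≠ 0) : zc χ + l.length ≤ Nat.card (ConjClasses G) := by
  classical
  let Z := {c : ConjClasses G // ∀ g : G, ConjClasses.mk g = c → (χ : G → ℂ) g = 0}
  let f : Z ⊕ Fin l.length → ConjClasses G := fun x =>
    match x with
    | .inl c => c.1
    | .inr i => ConjClasses.mk (l.get i)
  have hf : Function.Injective f := by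
    have key : ∀ (c : Z) (i : Fin l.length), c.1 ≠ ConjClasses.mk (l.get i) := fun c i hc =>
      h (l.get i) (l.get_mem i) (c.2 _ hc.symm)
    have key2 : ∀ i j : Fin l.length, i < j → ¬ IsConj (l.get i) (l.get j) := fun i j hij =>
      List.pairwise_iff_get.1 hl i j hij
    rintro (c | i) (d | j) hcd
    · exact congrArg Sum.inl (Subtype.ext hcd)
    · exact absurd hcd (key c j)
    · exact absurd hcd.symm (key d i)
    · have h1 : IsConj (l.get i) (l.get j) := ConjClasses.mk_eq_mk_iff_isConj.1 hcd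
      rcases lt_trichotomy i j with h2 | h2 | h2
      · exact absurd h1 (key2 i j h2)
      · rw [h2]
      · exact absurd h1.symm (key2 j i h2)
  have h1 := Nat.card_le_card_of_injective f hf
  rwa [Nat.card_sum, Nat.card_eq_fintype_card (α := Fin l.length), Fintype.card_fin] at h1

theorem le_zc_list [Finite G] {χ : IrrCharacter G} (l : List G) (hl : l.Pairwise fun g h => ¬ IsConj g h)
    (h : ∀ g ∈ l, (χ : G → ℂ) g = 0) : l.length ≤ zc χ := by
  classical
  let Z := {c : ConjClasses G // ∀ g : G, ConjClasses.mk g = c → (χ : G → ℂ) g = 0}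
  let f : Fin l.length → Z := fun i => ⟨ConjClasses.mk (l.get i), fun g hg => by
    rw [apply_eq_of_mk (isIrr_isCharacter χ.2) hg]
    exact h _ (l.get_mem i)⟩
  have hf : Function.Injective f := by
    have key2 : ∀ i j : Fin l.length, i < j → ¬ IsConj (l.get i) (l.get j) := fun i j hij =>
      List.pairwise_iff_get.1 hl i j hij
    intro i j hij
    have h1 : IsConj (l.get i) (l.get j) := ConjClasses.mk_eq_mk_iff_isConj.1 (congrArg Subtype.val hij)
    rcases lt_trichotomy i j with h2 | h2 | h2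
    · exact absurd h1 (key2 i j h2)
    · exact h2
    · exact absurd h1.symm (key2 j i h2)
  have h1 := Nat.card_le_card_of_injective f hf
  rwa [Nat.card_eq_fintype_card (α := Fin l.length), Fintype.card_fin] at h1

theorem not_isConj {g h : G} (hgh : orderOf g ≠ orderOf h) : ¬ IsConj g h := by
  intro hc
  obtain ⟨c, rfl⟩ := isConj_iff.1 hc
  exact hgh ((MulAut.conj c).orderOf_eq g).symm

theorem deg_eq (χ : IrrCharacter G) {d : ℕ} : (χ : G → ℂ) 1 = (d : ℂ) ↔ charDegree (χ : G → ℂ) = d := by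
  rw [← charDegree_cast_irr χ]
  exact ⟨fun h => by exact_mod_cast h, fun h => by rw [h]⟩

theorem ne_of_deg {χ ψ : IrrCharacter G} (h : charDegree (χ : G → ℂ) ≠ charDegree (ψ : G → ℂ)) : χ ≠ ψ :=
  fun he => h (by rw [he])

theorem cnt_deg_pos [Finite G] (χ : IrrCharacter G) : 0 < cnt G (charDegree (χ : G → ℂ)) :=
  cnt_pos χ ((deg_eq χ).2 rfl)

theorem exists_deg {d : ℕ} (h : 0 < cnt G d) : ∃ χ : IrrCharacter G, charDegree (χ : G → ℂ) = d := by
  obtain ⟨χ, hχ⟩ := exists_of_cnt_pos h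
  exact ⟨χ, (deg_eq χ).1 hχ⟩

theorem exists_deg_two [Finite G] {d : ℕ} (h : 2 ≤ cnt G d) : ∃ χ ψ : IrrCharacter G, χ ≠ ψ ∧
    charDegree (χ : G → ℂ) = d ∧ charDegree (ψ : G → ℂ) = d := by
  have := finite_irr (G := G)
  have h1 : 1 < Nat.card {χ : IrrCharacter G // (χ : G → ℂ) 1 = (d : ℂ)} := h
  rw [Finite.one_lt_card_iff_nontrivial] at h1
  obtain ⟨a, b, hab⟩ := h1
  exact ⟨a.1, b.1, fun h => hab (Subtype.ext h), (deg_eq _).1 a.2, (deg_eq _).1 b.2⟩

theorem ne_zero_of_not_dvd [Finite G] {p : ℕ} (hp : p.Prime) {χ : IrrCharacter G}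
    (hd : ¬ p ∣ charDegree (χ : G → ℂ)) {g : G} (hg : ∃ k : ℕ, orderOf g = p ^ k) : (χ : G → ℂ) g ≠ 0 := by
  have : Fact p.Prime := ⟨hp⟩
  exact Cfsg.Agent.H627.PrincipalCount.apply_ne_zero (isIrr_isCharacter χ.2) hd g hg

theorem ne_zero_one [Finite G] {χ : IrrCharacter G} : (χ : G → ℂ) 1 ≠ 0 := isIrr_apply_one_ne_zero χ.2

/-- characters of defect zero -/
theorem eq_zero_of_dz [Finite G] {p a : ℕ} (hp : p.Prime) {χ : IrrCharacter G}
    (hd : p ^ a ∣ charDegree (χ : G → ℂ)) (hG : ¬ p ^ (a + 1) ∣ Nat.card G) {g : G} (hg : p ∣ orderOf g) :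
    (χ : G → ℂ) g = 0 := by
  have : Fact p.Prime := ⟨hp⟩
  refine Cfsg.Agent.H713.irr_zero_of_singular (p := p) ?_ hg
  have h0 : Nat.card G ≠ 0 := Nat.card_pos.ne'
  have h1 : charDegree (χ : G → ℂ) ∣ Nat.card G :=
    Cfsg.Agent.Blocks.CentralProduct.degree_dvd_card χ.2 ((deg_eq χ).2 rfl)
  have h2 : charDegree (χ : G → ℂ) ≠ 0 := fun h => h0 (by rw [h] at h1; exact Nat.eq_zero_of_zero_dvd h1)
  have h3 := (hp.pow_dvd_iff_le_factorization h2).1 hd
  have h4 : (Nat.card G).factorization p < a + 1 := by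
    by_contra h5
    exact hG ((hp.pow_dvd_iff_le_factorization h0).2 (by omega))
  have h5 := (Nat.factorization_le_iff_dvd h2 h0).2 h1 p
  omega

end Cfsg.Agent.H377.TwoConv
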