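import Cfsg.Agent.H377.TwoConv.Basic
import Cfsg.Agent.H689.DD

/-!
# S4897, converse: `S₅` (helper377)
-/

set_option autoImplicit false

namespace Cfsg.Agent.H377.TwoConv

open Cfsg Cfsg.Agent.Characters.Core Cfsg.Agent.H504.Zeros Cfsg.Agent.H504.TwoZ Cfsg.Agent.H727.DegCount
open Cfsg.Agent.H442.ZerosSmall Equiv

abbrev a2 : Perm (Fin 5) := swap 0 1
abbrev b2 : Perm (Fin 5) := swap 0 1 * swap 2 3
abbrev k3 : Perm (Fin 5) := swap 0 1 * swap 1 2
abbrev d4 : Perm (Fin 5) := swap 0 1 * swap 1 2 * swap 2 3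
abbrev e5 : Perm (Fin 5) := swap 0 1 * swap 1 2 * (swap 2 3 * swap 3 4)
abbrev g6 : Perm (Fin 5) := swap 0 1 * swap 1 2 * swap 3 4

/-- number of fixed points -/
def fx (g : Perm (Fin 5)) : ℕ := (Finset.univ.filter fun i => g i = i).card

def rep (g : Perm (Fin 5)) : Perm (Fin 5) :=
  if fx g = 5 then 1 else if fx g = 3 then a2 else if fx g = 2 then k3 else
    if fx g = 1 then (if Perm.sign g = 1 then b2 else d4) else if Perm.sign g = 1 then e5 else g6

theorem cov : ∀ g : Perm (Fin 5), ∃ c : Perm (Fin 5), g * c = c * rep g := by decide +kernel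

theorem rep_mem (g : Perm (Fin 5)) : rep g ∈ ({1, a2, b2, k3, d4, e5, g6} : Finset (Perm (Fin 5))) := by
  unfold rep
  simp only [Finset.mem_insert, Finset.mem_singleton]
  split_ifs <;> simp

theorem k_s5_le : Nat.card (ConjClasses (Perm (Fin 5))) ≤ 7 := by
  classical
  let f : ({1, a2, b2, k3, d4, e5, g6} : Finset (Perm (Fin 5))) → ConjClasses (Perm (Fin 5)) :=
    fun g => ConjClasses.mk g.1
  have hf : Function.Surjective f := by
    intro c
    obtain ⟨g, rfl⟩ := ConjClasses.exists_rep c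
    obtain ⟨c, hc⟩ := cov g
    refine ⟨⟨rep g, rep_mem g⟩, ConjClasses.mk_eq_mk_iff_isConj.2 (isConj_iff.2 ⟨c, ?_⟩)⟩
    rw [← hc, mul_inv_cancel_right]
  have h := Nat.card_le_card_of_surjective f hf
  refine h.trans ?_
  rw [Nat.card_eq_fintype_card, Fintype.card_coe]
  exact (Finset.card_insert_le _ _).trans (Nat.succ_le_succ Finset.card_le_six)

theorem ord_a2 : orderOf a2 = 2 := orderOf_eq_prime (by decide +kernel) (by decide +kernel)
theorem ord_b2 : orderOf b2 = 2 := orderOf_eq_prime (by decide +kernel) (by decide +kernel)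
theorem ord_k3 : orderOf k3 = 3 := orderOf_eq_prime (by decide +kernel) (by decide +kernel)
theorem ord_d4 : orderOf d4 = 4 := by
  have h : orderOf d4 = 2 ^ (1 + 1) := orderOf_eq_prime_pow (by decide +kernel) (by decide +kernel)
  exact h
theorem ord_e5 : orderOf e5 = 5 :=
  have : Fact (Nat.Prime 5) := ⟨by norm_num⟩
  orderOf_eq_prime (by decide +kernel) (by decide +kernel)
theorem ord_g6 : orderOf g6 = 6 := by
  rw [orderOf_eq_iff (by norm_num)]
  refine ⟨by decide +kernel, ?_⟩
  intro m hm h0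
  interval_cases m <;> decide +kernel

theorem not_conj_ab : ¬ IsConj a2 b2 := by
  intro h
  obtain ⟨c, hc⟩ := isConj_iff.1 h
  have h1 : Perm.sign (c * a2 * c⁻¹) = Perm.sign b2 := by rw [hc]
  rw [map_mul, map_mul, map_inv, mul_comm, inv_mul_cancel_left] at h1
  revert h1
  decide +kernel

theorem card_s5 : Nat.card (Perm (Fin 5)) = 120 := by
  rw [Nat.card_eq_fintype_card]
  decide +kernel

theorem cnt_one_s5 : cnt (Perm (Fin 5)) 1 = 2 := by
  rw [cnt_one, alternatingGroup.commutator_perm_eq (by simp), alternatingGroup.index_eq_two]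

theorem pairwise7 : [1, a2, b2, k3, d4, e5, g6].Pairwise fun g h : Perm (Fin 5) => ¬ IsConj g h := by
  have o1 : orderOf (1 : Perm (Fin 5)) = 1 := orderOf_one
  have oa := ord_a2
  have ob := ord_b2
  have ok := ord_k3
  have od := ord_d4
  have oe := ord_e5
  have og := ord_g6
  simp only [List.pairwise_cons, List.mem_cons, List.not_mem_nil, or_false, forall_eq_or_imp, forall_eq]
  refine ⟨⟨not_isConj (by omega), not_isConj (by omega), not_isConj (by omega), not_isConj (by omega),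
      not_isConj (by omega), not_isConj (by omega)⟩,
    ⟨not_conj_ab, not_isConj (by omega), not_isConj (by omega), not_isConj (by omega), not_isConj (by omega)⟩,
    ⟨not_isConj (by omega), not_isConj (by omega), not_isConj (by omega), not_isConj (by omega)⟩,
    ⟨not_isConj (by omega), not_isConj (by omega), not_isConj (by omega)⟩,
    ⟨not_isConj (by omega), not_isConj (by omega)⟩, not_isConj (by omega), ?_⟩
  simp

theorem k_s5 : Nat.card (ConjClasses (Perm (Fin 5))) = 7 := by
  refine le_antisymm k_s5_le ?_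
  obtain ⟨χ, hχ⟩ := exists_deg (G := Perm (Fin 5)) (d := 1) (by rw [cnt_one_s5]; norm_num)
  have h := zc_add_le (χ := χ) [1, a2, b2, k3, d4, e5, g6] pairwise7 fun g _ h0 => nonlinear_of_zero h0 hχ
  simp only [List.length_cons, List.length_nil] at h
  omega

/-! ### the character of degree 4 -/

theorem isIrr_std : IsIrrCharacter (Perm (Fin 5)) (fun g => (Nat.card (MulAction.fixedBy (Fin 5) g) : ℂ) - 1) := by
  have h2 : MulAction.IsMultiplyPretransitive (Perm (Fin 5)) (Fin 5) 2 :=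
    Equiv.Perm.isMultiplyPretransitive (Fin 5) 2
  exact (S0157.result (G := Perm (Fin 5)) (Fin 5) (by simp)).2 h2

theorem card_fixedBy (g : Perm (Fin 5)) : Nat.card (MulAction.fixedBy (Fin 5) g) = fx g := by
  rw [fx, Nat.card_eq_fintype_card, ← Set.toFinset_card]
  congr 1
  ext i
  simp [MulAction.mem_fixedBy]

theorem isIrr_std' : IsIrrCharacter (Perm (Fin 5)) (fun g => (fx g : ℂ) - 1) := by
  have h := isIrr_std
  simp only [card_fixedBy] at h
  exact h

/-- the irreducible character `fix - 1` -/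
noncomputable def std : IrrCharacter (Perm (Fin 5)) := ⟨fun g => (fx g : ℂ) - 1, isIrr_std'⟩

/-- the sign as a homomorphism to `ℂˣ` -/
noncomputable def sg : Perm (Fin 5) →* ℂˣ := (Units.map (Int.castRingHom ℂ).toMonoidHom).comp Perm.sign

/-- sign times an irreducible character -/
noncomputable def tw (χ : IrrCharacter (Perm (Fin 5))) : IrrCharacter (Perm (Fin 5)) :=
  ⟨fun g => (sg g : ℂ) * (χ : Perm (Fin 5) → ℂ) g, H689.isIrr_mul_linear χ.2 sg⟩

theorem sg_odd {g : Perm (Fin 5)} (h : Perm.sign g = -1) : (sg g : ℂ) = -1 := by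
  simp [sg, h]

theorem deg_tw (χ : IrrCharacter (Perm (Fin 5))) :
    charDegree (tw χ : Perm (Fin 5) → ℂ) = charDegree (χ : Perm (Fin 5) → ℂ) := by
  apply (deg_eq _).1
  rw [charDegree_cast_irr]
  simp [tw]

theorem fx_one : fx 1 = 5 := by decide +kernel

theorem std_deg : charDegree (std : Perm (Fin 5) → ℂ) = 4 := by
  apply (deg_eq _).1
  change ((fx 1 : ℕ) : ℂ) - 1 = _
  rw [fx_one]
  norm_num

theorem std_ne : std ≠ tw std := by
  intro h
  have h1 : (std : Perm (Fin 5) → ℂ) a2 = (tw std : Perm (Fin 5) → ℂ) a2 := by rw [← h]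
  have h2 : (std : Perm (Fin 5) → ℂ) a2 = 2 := by
    change ((fx a2 : ℕ) : ℂ) - 1 = _
    rw [show fx a2 = 3 by decide +kernel]
    norm_num
  have h3 : (tw std : Perm (Fin 5) → ℂ) a2 = -2 := by
    change (sg a2 : ℂ) * (std : Perm (Fin 5) → ℂ) a2 = _
    rw [h2, sg_odd (by decide +kernel)]
    norm_num
  rw [h2, h3] at h1
  norm_num at h1

structure DegS : Prop where
  mem : ∀ d, 0 < cnt (Perm (Fin 5)) d → d ∈ ({1, 4, 5, 6} : Finset ℕ)
  one : cnt (Perm (Fin 5)) 1 = 2
  four : cnt (Perm (Fin 5)) 4 = 2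
  five : cnt (Perm (Fin 5)) 5 = 2
  six : cnt (Perm (Fin 5)) 6 = 1

theorem nums {b c d e f g h : ℕ} (h1 : b + c + d + e + f + g + h = 5)
    (h2 : 4 * b + 9 * c + 16 * d + 25 * e + 36 * f + 64 * g + 100 * h = 118) (hd : 2 ≤ d) :
    b = 0 ∧ c = 0 ∧ d = 2 ∧ e = 2 ∧ f = 1 ∧ g = 0 ∧ h = 0 := by
  have e1 : h ≤ 1 := by omega
  have e2 : g ≤ 1 := by omega
  have e3 : f ≤ 3 := by omega
  have e4 : e ≤ 4 := by omega
  have e5 : d ≤ 5 := by omega
  interval_cases h <;> interval_cases g <;> interval_cases f <;> interval_cases e <;> interval_cases d <;> omega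

theorem degS : DegS := by
  have := finite_irr (G := Perm (Fin 5))
  have hmem : ∀ d, 0 < cnt (Perm (Fin 5)) d → d ∈ ({1, 2, 3, 4, 5, 6, 8, 10} : Finset ℕ) := by
    intro d hd
    have h1 := le_card_of_cnt_pos hd
    obtain ⟨χ, hχ⟩ := exists_of_cnt_pos hd
    have h2 := Cfsg.Agent.Blocks.CentralProduct.degree_dvd_card χ.2 hχ
    rw [card_s5] at h1 h2
    have h3 : d ≤ 10 := by nlinarith
    interval_cases d <;> simp_all
  have hk := card_classes _ hmem
  have hs := sum_cnt _ hmem
  rw [k_s5, Finset.sum_insert (by decide), Finset.sum_insert (by decide), Finset.sum_insert (by decide),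
    Finset.sum_insert (by decide), Finset.sum_insert (by decide), Finset.sum_insert (by decide),
    Finset.sum_insert (by decide), Finset.sum_singleton, cnt_one_s5] at hk
  rw [card_s5, Finset.sum_insert (by decide), Finset.sum_insert (by decide), Finset.sum_insert (by decide),
    Finset.sum_insert (by decide), Finset.sum_insert (by decide), Finset.sum_insert (by decide),
    Finset.sum_insert (by decide), Finset.sum_singleton, cnt_one_s5] at hs
  have h4 : 2 ≤ cnt (Perm (Fin 5)) 4 := by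
    have : Nontrivial {χ : IrrCharacter (Perm (Fin 5)) // (χ : Perm (Fin 5) → ℂ) 1 = ((4 : ℕ) : ℂ)} :=
      ⟨⟨std, (deg_eq _).2 std_deg⟩, ⟨tw std, (deg_eq _).2 ((deg_tw _).trans std_deg)⟩,
        fun h => std_ne (congrArg Subtype.val h)⟩
    exact Finite.one_lt_card_iff_nontrivial.2 this
  obtain ⟨e2, e3, e4, e5, e6, e8, e10⟩ := nums (b := cnt (Perm (Fin 5)) 2) (c := cnt (Perm (Fin 5)) 3)
    (d := cnt (Perm (Fin 5)) 4) (e := cnt (Perm (Fin 5)) 5) (f := cnt (Perm (Fin 5)) 6)
    (g := cnt (Perm (Fin 5)) 8) (h := cnt (Perm (Fin 5)) 10) (by omega) (by omega) h4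
  refine ⟨fun d hd => ?_, cnt_one_s5, e4, e5, e6⟩
  have h := hmem d hd
  simp only [Finset.mem_insert, Finset.mem_singleton] at h ⊢
  rcases h with rfl | rfl | rfl | rfl | rfl | rfl | rfl | rfl <;> omega

theorem eq_std {χ : IrrCharacter (Perm (Fin 5))} (h : charDegree (χ : Perm (Fin 5) → ℂ) = 4) :
    χ = std ∨ χ = tw std := by
  classical
  by_contra hc
  push Not at hc
  have := finite_irr (G := Perm (Fin 5))
  have h4 := degS.four
  have := Fintype.ofFinite (IrrCharacter (Perm (Fin 5)))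
  have h5 : ({χ, std, tw std} : Finset (IrrCharacter (Perm (Fin 5)))).card ≤
      cnt (Perm (Fin 5)) 4 := by
    rw [cnt, Nat.card_eq_fintype_card, Fintype.card_subtype]
    refine Finset.card_le_card fun ψ hψ => ?_
    simp only [Finset.mem_insert, Finset.mem_singleton] at hψ
    rw [Finset.mem_filter]
    refine ⟨Finset.mem_univ _, (deg_eq _).2 ?_⟩
    rcases hψ with rfl | rfl | rfl
    · exact h
    · exact std_deg
    · exact (deg_tw _).trans std_deg
  rw [Finset.card_insert_of_notMem (by simp [hc.1, hc.2]), Finset.card_pair std_ne, h4] at h5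
  omega

theorem ne_zero_four {χ : IrrCharacter (Perm (Fin 5))} (h : charDegree (χ : Perm (Fin 5) → ℂ) = 4)
    {g : Perm (Fin 5)} (hg : fx g ≠ 1) : (χ : Perm (Fin 5) → ℂ) g ≠ 0 := by
  have h1 : (std : Perm (Fin 5) → ℂ) g ≠ 0 := by
    intro h0
    have h2 : ((fx g : ℕ) : ℂ) = ((1 : ℕ) : ℂ) := by
      have h3 : ((fx g : ℕ) : ℂ) - 1 = 0 := h0
      push_cast
      linear_combination h3
    exact hg (by exact_mod_cast h2)
  rcases eq_std h with rfl | rfl
  · exact h1
  · exact mul_ne_zero (sg g).ne_zero h1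

/-- **`S₅`** -/
theorem atMost_s5 : AtMost (Perm (Fin 5)) := by
  have D := degS
  obtain ⟨φ, hφ⟩ := exists_deg (G := Perm (Fin 5)) (d := 6) (by rw [D.six]; norm_num)
  refine ⟨φ, fun χ h1 hne => ?_⟩
  have hm := D.mem _ (cnt_deg_pos χ)
  simp only [Finset.mem_insert, Finset.mem_singleton] at hm
  have hsub : ∀ l : List (Perm (Fin 5)), l.Sublist [1, a2, b2, k3, d4, e5, g6] →
      (∀ g ∈ l, (χ : Perm (Fin 5) → ℂ) g ≠ 0) → l.length = 5 → zc χ ≤ 2 := by
    intro l hl h hlen
    have h2 := zc_add_le l (pairwise7.sublist hl) h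
    rw [k_s5, hlen] at h2
    omega
  rcases hm with hd | hd | hd | hd
  · exact absurd hd h1
  · refine hsub [1, a2, k3, e5, g6] ?_ ?_ rfl
    · decide +kernel
    · simp only [List.mem_cons, List.not_mem_nil, or_false, forall_eq_or_imp, forall_eq]
      exact ⟨ne_zero_one, ne_zero_four hd (by decide +kernel), ne_zero_four hd (by decide +kernel),
        ne_zero_four hd (by decide +kernel), ne_zero_four hd (by decide +kernel)⟩
  · refine hsub [1, a2, b2, k3, d4] ?_ ?_ rfl
    · decide +kernel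
    · simp only [List.mem_cons, List.not_mem_nil, or_false, forall_eq_or_imp, forall_eq]
      exact ⟨ne_zero_one, ne_zero_of_not_dvd Nat.prime_two (by rw [hd]; norm_num) ⟨1, ord_a2⟩,
        ne_zero_of_not_dvd Nat.prime_two (by rw [hd]; norm_num) ⟨1, ord_b2⟩,
        ne_zero_of_not_dvd Nat.prime_three (by rw [hd]; norm_num) ⟨1, ord_k3⟩,
        ne_zero_of_not_dvd Nat.prime_two (by rw [hd]; norm_num) ⟨2, ord_d4⟩⟩
  · exfalso
    apply hne
    exact Subtype.ext (eq_of_cnt_le_one (G := Perm (Fin 5)) (d := 6) (by rw [D.six]) χ.2 φ.2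
      ((deg_eq χ).2 hd) ((deg_eq φ).2 hφ))

theorem fx_four : ∀ g : Perm (Fin 5), g ^ 4 = 1 → g ^ 2 ≠ 1 → fx g = 1 := by decide +kernel
theorem fx_two : ∀ g : Perm (Fin 5), g ^ 2 = 1 → g ≠ 1 → Perm.sign g = 1 → fx g = 1 := by decide +kernel

/-- the irreducible characters of degrees 4 and 6 of `S₅` and their zeros -/
theorem s5_chars : ∃ χ₄ χ₆ : IrrCharacter (Perm (Fin 5)), χ₄ ≠ χ₆ ∧ 3 ≤ zc χ₆ ∧
    (∀ g, orderOf g = 4 → (χ₄ : Perm (Fin 5) → ℂ) g = 0) ∧
    (∀ g, orderOf g = 2 → Perm.sign g = 1 → (χ₄ : Perm (Fin 5) → ℂ) g = 0) := by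
  have D := degS
  obtain ⟨φ, hφ⟩ := exists_deg (G := Perm (Fin 5)) (d := 6) (by rw [D.six]; norm_num)
  have hstd : ∀ g, fx g = 1 → (std : Perm (Fin 5) → ℂ) g = 0 := fun g hg => by
    change ((fx g : ℕ) : ℂ) - 1 = 0
    rw [hg]
    norm_num
  refine ⟨std, φ, ne_of_deg (by rw [std_deg, hφ]; norm_num), ?_, fun g hg => ?_, fun g hg hs => ?_⟩
  · have htw : tw φ = φ := by
      refine Subtype.ext (eq_of_cnt_le_one (G := Perm (Fin 5)) (d := 6) (by rw [D.six]) (tw φ).2 φ.2
        ((deg_eq _).2 ((deg_tw φ).trans hφ)) ((deg_eq φ).2 hφ))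
    have hodd : ∀ g, Perm.sign g = -1 → (φ : Perm (Fin 5) → ℂ) g = 0 := by
      intro g hg
      have h1 : (sg g : ℂ) * (φ : Perm (Fin 5) → ℂ) g = (φ : Perm (Fin 5) → ℂ) g :=
        congrFun (congrArg Subtype.val htw) g
      rw [sg_odd hg] at h1
      linear_combination (-1 / 2 : ℂ) * h1
    have h2 : [a2, k3, d4].Sublist [1, a2, b2, k3, d4, e5, g6] := by decide +kernel
    refine le_zc_list [a2, k3, d4] (pairwise7.sublist h2) ?_
    simp only [List.mem_cons, List.not_mem_nil, or_false, forall_eq_or_imp, forall_eq]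
    exact ⟨hodd _ (by decide +kernel), eq_zero_of_dz (p := 3) (a := 1) Nat.prime_three (by rw [hφ]; norm_num)
      (by rw [card_s5]; norm_num) (by rw [ord_k3]), hodd _ (by decide +kernel)⟩
  · apply hstd
    apply fx_four g
    · rw [← hg]; exact pow_orderOf_eq_one g
    · intro h
      have := orderOf_dvd_of_pow_eq_one h
      rw [hg] at this
      norm_num at this
  · apply hstd
    apply fx_two g
    · rw [← hg]; exact pow_orderOf_eq_one g
    · rintro rfl
      rw [orderOf_one] at hg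
      omega
    · exact hs

end Cfsg.Agent.H377.TwoConv
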